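import Mathlib
import Groth.Agent.Hensel.QuasiFinite

/-!
A finite type subalgebra with finite reduced closed fibre, inside an algebra with the maximal ideal in the radical,
is finite, and generated by any subalgebra dense modulo the maximal ideal.
-/

set_option autoImplicit false
set_option linter.unusedSectionVars false

universe u

open IsLocalRing

namespace Groth.Agent.HenselAlg

variable {A : Type u} [CommRing A] [HenselianLocalRing A] {T : Type u} [CommRing T] [Algebra A T]

theorem map_mem_map (D : Subalgebra A T) {x : D}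
    (hx : x ∈ (maximalIdeal A).map (algebraMap A D)) : (x : T) ∈ (maximalIdeal A).map (algebraMap A T) := by
  have h := Ideal.mem_map_of_mem D.val hx
  rwa [← Ideal.map_coe (f := D.val), Ideal.map_map, AlgHom.comp_algebraMap] at h

theorem finite_of_fibre (hJ : (maximalIdeal A).map (algebraMap A T) ≤ Ideal.jacobson ⊥)
    (D : Subalgebra A T) [Algebra.FiniteType A D]
    [Module.Finite A (D ⧸ (maximalIdeal A).map (algebraMap A D))] : Module.Finite A D := by
  classical
  let mD := (maximalIdeal A).map (algebraMap A D)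
  obtain ⟨e, he, hfin, hno⟩ := Hensel.exists_idempotent_split (R := A) (S := D)
  let E : Ideal D := Ideal.span {e}
  have htop : (maximalIdeal A).map (algebraMap A (D ⧸ E)) = ⊤ := by
    by_contra hne
    obtain ⟨q, hq, hle⟩ := Ideal.exists_le_maximal _ hne
    have hover : q.LiesOver (maximalIdeal A) :=
      ⟨(maximalIdeal.isMaximal A).eq_of_le (hq.isPrime.comap _).ne_top (Ideal.map_le_iff_le_comap.1 hle)⟩
    haveI : q.IsPrime := hq.isPrime
    let J := (q.under A).map (algebraMap A (D ⧸ E))
    have hJ' : J = (maximalIdeal A).map (algebraMap A (D ⧸ E)) := congrArg (Ideal.map _) hover.over.symm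
    haveI : Module.Finite A ((D ⧸ E) ⧸ J) := by
      let g : D →ₐ[A] (D ⧸ E) ⧸ J := (Ideal.Quotient.mkₐ A J).comp (Ideal.Quotient.mkₐ A E)
      have hg : Function.Surjective g :=
        (Ideal.Quotient.mkₐ_surjective A J).comp (Ideal.Quotient.mkₐ_surjective A E)
      refine Module.Finite.of_surjective (Ideal.Quotient.liftₐ mD g fun a ha => ?_).toLinearMap fun y => ?_
      · have h : mD ≤ RingHom.ker g := by
          refine Ideal.map_le_iff_le_comap.2 fun r hr => ?_
          show g (algebraMap A D r) = 0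
          rw [g.commutes, IsScalarTower.algebraMap_apply A (D ⧸ E) ((D ⧸ E) ⧸ J), Ideal.Quotient.algebraMap_eq,
            Ideal.Quotient.eq_zero_iff_mem, hJ']
          exact Ideal.mem_map_of_mem _ hr
        exact h ha
      · obtain ⟨x, rfl⟩ := hg y
        exact ⟨Ideal.Quotient.mk _ x, rfl⟩
    have hqJ : J ≤ q := hJ'.le.trans hle
    haveI : (q.map (Ideal.Quotient.mk J)).IsPrime :=
      Ideal.map_isPrime_of_surjective Ideal.Quotient.mk_surjective (by rwa [Ideal.mk_ker])
    haveI : Algebra.WeaklyQuasiFiniteAt A q := inferInstanceAs (Algebra.QuasiFiniteAt A (q.map (Ideal.Quotient.mk J)))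
    exact hno q hover (Algebra.QuasiFiniteAt.of_weaklyQuasiFiniteAt q)
  have h1 : (1 : D) - e ∈ mD := by
    have hone : (1 : D ⧸ E) ∈ mD.map (Ideal.Quotient.mk E) := by
      show (1 : D ⧸ E) ∈ ((maximalIdeal A).map (algebraMap A D)).map (Ideal.Quotient.mk E)
      rw [Ideal.map_map]
      show (1 : D ⧸ E) ∈ (maximalIdeal A).map (algebraMap A (D ⧸ E))
      rw [htop]
      trivial
    obtain ⟨μ, hμ, hμ1⟩ := (Ideal.mem_map_iff_of_surjective _ Ideal.Quotient.mk_surjective).1 hone
    rw [← map_one (Ideal.Quotient.mk E), Ideal.Quotient.eq] at hμ1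
    obtain ⟨s, hs⟩ := Ideal.mem_span_singleton'.1 hμ1
    rw [show (1 : D) - e = (1 - e) * μ by linear_combination (1 - e) * hs + s * he.eq]
    exact mD.mul_mem_left _ hμ
  have he1 : (1 : D) - e = 0 := Subtype.ext <| Hensel.idempotent_eq_of_sub_mem_jacobson
    (e := ((1 - e : D) : T)) (e' := 0)
    (he.one_sub.map D.val) IsIdempotentElem.zero (by rw [sub_zero]; exact hJ (map_mem_map D h1))
  haveI := hfin
  refine Module.Finite.equiv (AlgEquiv.ofBijective (Ideal.Quotient.mkₐ A (Ideal.span ({1 - e} : Set D))) ⟨?_,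
    Ideal.Quotient.mkₐ_surjective A _⟩).toLinearEquiv.symm
  rw [injective_iff_map_eq_zero]
  intro x hx
  rw [Ideal.Quotient.mkₐ_eq_mk, Ideal.Quotient.eq_zero_iff_mem, he1, Ideal.span_singleton_eq_bot.2 rfl] at hx
  exact hx

theorem eq_of_fibre (hJ : (maximalIdeal A).map (algebraMap A T) ≤ Ideal.jacobson ⊥)
    (D S₀ : Subalgebra A T) [Algebra.FiniteType A D]
    [Module.Finite A (D ⧸ (maximalIdeal A).map (algebraMap A D))]
    [IsReduced (D ⧸ (maximalIdeal A).map (algebraMap A D))] (hle : S₀ ≤ D)
    (hsum : ∀ x ∈ D, ∃ a ∈ S₀, x - a ∈ (maximalIdeal A).map (algebraMap A T)) : D = S₀ := by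
  haveI := finite_of_fibre hJ D
  haveI : HenselianRing A (maximalIdeal A) := Hensel.henselianRing_maximalIdeal_iff.2 inferInstance
  let mD := (maximalIdeal A).map (algebraMap A D)
  let mT := (maximalIdeal A).map (algebraMap A T)
  haveI : IsArtinianRing (D ⧸ mD) := Hensel.isArtinianRing_quotient_maximalIdeal A D
  haveI : IsSemisimpleRing (D ⧸ mD) := IsArtinianRing.isSemisimpleRing_of_isReduced _
  let J : Ideal (D ⧸ mD) := (mT.comap D.val).map (Ideal.Quotient.mk mD)
  have hmem : ∀ x : D, (x : T) ∈ mT → x ∈ mD := by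
    obtain ⟨ε, hε, hJε⟩ := IsSemisimpleRing.ideal_eq_span_idempotent J
    obtain ⟨f, hf, hfε⟩ := Hensel.surjOn_idempotent (I := maximalIdeal A) D hε
    have hεJ : ε ∈ J := by rw [hJε]; exact Ideal.subset_span rfl
    obtain ⟨j, hj, hjε⟩ := (Ideal.mem_map_iff_of_surjective _ Ideal.Quotient.mk_surjective).1 hεJ
    have hfT : (f : T) ∈ mT := by
      have h := map_mem_map D (Ideal.Quotient.eq.1 (hfε.trans hjε.symm))
      have hj' : (j : T) ∈ mT := hj
      have := add_mem h hj'
      simpa using this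
    have hf0 : (f : T) = 0 := Hensel.idempotent_eq_of_sub_mem_jacobson (IsIdempotentElem.map hf D.val)
      IsIdempotentElem.zero (by rw [sub_zero]; exact hJ hfT)
    intro x hx
    have hxJ : Ideal.Quotient.mk mD x ∈ J := Ideal.mem_map_of_mem _ hx
    rw [hJε, Ideal.mem_span_singleton'] at hxJ
    obtain ⟨t, ht⟩ := hxJ
    rw [← hfε, show f = 0 from Subtype.ext hf0, map_zero, mul_zero] at ht
    exact Ideal.Quotient.eq_zero_iff_mem.1 ht.symm
  let W : Submodule A D := (S₀.toSubmodule).comap D.val.toLinearMap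
  have hW : (⊤ : Submodule A D) ≤ W := by
    refine Submodule.le_of_le_smul_of_le_jacobson_bot Module.Finite.fg_top
      (jacobson_eq_maximalIdeal (⊥ : Ideal A) bot_ne_top).ge ?_
    intro x _
    obtain ⟨a, ha, hxa⟩ := hsum x x.2
    let a' : D := ⟨a, hle ha⟩
    rw [show x = a' + (x - a') by ring]
    refine Submodule.add_mem_sup ha ?_
    rw [Ideal.smul_top_eq_map]
    exact hmem (x - a') hxa
  exact le_antisymm (fun x hx => hW (x := ⟨x, hx⟩) Submodule.mem_top) hle

end Groth.Agent.HenselAlg
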