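import Mathlib

/-!
Algebra maps from a bialgebra to a group algebra `S[M]` that respect comultiplication, written without tensor
products over `S`: the two maps to `S[M × M]` agree.
-/

set_option autoImplicit false
set_option backward.isDefEq.respectTransparency false
set_option linter.unusedSectionVars false

universe u

open TensorProduct MonoidAlgebra

noncomputable section

namespace Groth.Agent.HenselAlg

variable {R : Type u} [CommRing R] {S : Type u} [CommRing S] [Algebra R S]
  {X : Type u} [CommRing X] [Bialgebra R X] {M : Type u} [CommGroup M]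

/-- `x ⊗ y ↦ (f x on the first factor) * (f y on the second)`. -/
def pairMap (f : X →ₐ[R] MonoidAlgebra S M) : X ⊗[R] X →ₐ[R] MonoidAlgebra S (M × M) :=
  Algebra.TensorProduct.lift ((mapDomainAlgHom R S (MonoidHom.inl M M)).comp f)
    ((mapDomainAlgHom R S (MonoidHom.inr M M)).comp f) fun _ _ => Commute.all _ _

theorem pairMap_tmul (f : X →ₐ[R] MonoidAlgebra S M) (x y : X) :
    pairMap f (x ⊗ₜ y) = mapDomainAlgHom R S (MonoidHom.inl M M) (f x) *
      mapDomainAlgHom R S (MonoidHom.inr M M) (f y) := by
  simp [pairMap]

variable (R S M) in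
/-- `single m s ↦ single (m, m) s`. -/
def diagMap : MonoidAlgebra S M →ₐ[R] MonoidAlgebra S (M × M) :=
  mapDomainAlgHom R S ((MonoidHom.id M).prod (MonoidHom.id M))

/-- `f` respects comultiplication. -/
def ComulCompat (f : X →ₐ[R] MonoidAlgebra S M) : Prop :=
  ∀ x, pairMap f (Coalgebra.comul (R := R) x) = diagMap R S M (f x)

theorem ComulCompat.comp {f : X →ₐ[R] MonoidAlgebra S M} (hf : ComulCompat f) {Y : Type u} [CommRing Y]
    [Bialgebra R Y] (φ : Y →ₐc[R] X) : ComulCompat (f.comp (φ : Y →ₐ[R] X)) := by
  intro y
  have h := CoalgHomClass.map_comp_comul_apply φ y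
  have key : ∀ w : Y ⊗[R] Y, pairMap (f.comp (φ : Y →ₐ[R] X)) w =
      pairMap f (TensorProduct.map (φ : Y →ₗc[R] X).toLinearMap (φ : Y →ₗc[R] X).toLinearMap w) := by
    intro w
    induction w using TensorProduct.induction_on with
    | zero => simp
    | add a b ha hb => simp only [map_add, ha, hb]
    | tmul a b => simp [pairMap_tmul]
  rw [key, show TensorProduct.map (φ : Y →ₗc[R] X).toLinearMap (φ : Y →ₗc[R] X).toLinearMap
    (Coalgebra.comul y) = Coalgebra.comul (φ y) from h]
  exact hf (φ y)

theorem pairMap_map {S' : Type u} [CommRing S'] [Algebra R S'] (h : S →ₐ[R] S')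
    (f : X →ₐ[R] MonoidAlgebra S M) (w : X ⊗[R] X) :
    pairMap ((mapAlgHom M h).comp f) w = mapAlgHom (M × M) h (pairMap f w) := by
  induction w using TensorProduct.induction_on with
  | zero => simp
  | add a b ha hb => simp only [map_add, ha, hb]
  | tmul a b =>
    have key : ∀ (g : M →* M × M) (z : MonoidAlgebra S M), mapDomainAlgHom R S' g (mapAlgHom M h z) =
        mapAlgHom (M × M) h (mapDomainAlgHom R S g z) := by
      intro g z
      induction z using MonoidAlgebra.induction_linear with
      | zero => simp
      | add a b ha hb => simp only [map_add, ha, hb]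
      | single m r => simp
    simp [pairMap_tmul, map_mul, key]

theorem diagMap_map {S' : Type u} [CommRing S'] [Algebra R S'] (h : S →ₐ[R] S') (z : MonoidAlgebra S M) :
    diagMap R S' M (mapAlgHom M h z) = mapAlgHom (M × M) h (diagMap R S M z) := by
  induction z using MonoidAlgebra.induction_linear with
  | zero => simp
  | add a b ha hb => simp only [map_add, ha, hb]
  | single m r => simp [diagMap]

theorem ComulCompat.map {f : X →ₐ[R] MonoidAlgebra S M} (hf : ComulCompat f) {S' : Type u} [CommRing S']
    [Algebra R S'] (h : S →ₐ[R] S') : ComulCompat ((mapAlgHom M h).comp f) := by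
  intro x
  rw [pairMap_map, hf x, ← diagMap_map]
  rfl

theorem mapAlgHom_injective {S' : Type u} [CommRing S'] [Algebra R S'] {h : S →ₐ[R] S'}
    (hh : Function.Injective h) (N : Type u) [Monoid N] : Function.Injective (mapAlgHom N h) := by
  intro a b hab
  refine MonoidAlgebra.ext (Finsupp.ext fun n => hh ?_)
  rw [← coeff_mapAlgHom, ← coeff_mapAlgHom, hab]

theorem ComulCompat.of_map {f : X →ₐ[R] MonoidAlgebra S M} {S' : Type u} [CommRing S'] [Algebra R S']
    {h : S →ₐ[R] S'} (hh : Function.Injective h) (hf : ComulCompat ((mapAlgHom M h).comp f)) :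
    ComulCompat f := by
  intro x
  refine mapAlgHom_injective hh (M × M) ?_
  rw [← pairMap_map, hf x, ← diagMap_map]
  rfl

/-- The bialgebra maps to `S[M]` respect comultiplication. -/
theorem comulCompat_of_bialgHom {Y : Type u} [CommRing Y] [Bialgebra S Y] (e : Y →ₐc[S] MonoidAlgebra S M) :
    ComulCompat (R := S) (e : Y →ₐ[S] MonoidAlgebra S M) := by
  have h0 : ComulCompat (R := S) (AlgHom.id S (MonoidAlgebra S M)) := by
    intro x
    have : (pairMap (AlgHom.id S (MonoidAlgebra S M))).comp (Bialgebra.comulAlgHom S (MonoidAlgebra S M)) =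
        diagMap S S M := by
      refine MonoidAlgebra.algHom_ext (fun m => ?_) (Subsingleton.elim _ _)
      simp [pairMap_tmul, diagMap, Algebra.TensorProduct.tmul_mul_tmul]
    exact DFunLike.congr_fun this x
  exact h0.comp e

section Extend

variable {R' : Type u} [CommRing R'] [Algebra R R'] [Algebra R' S] [IsScalarTower R R' S]

theorem pairMap_one_tmul (g : R' ⊗[R] X →ₐ[R'] MonoidAlgebra S M) (x : X) :
    pairMap g (Coalgebra.comul (R := R') ((1 : R') ⊗ₜ[R] x)) =
      pairMap ((g.restrictScalars R).comp Algebra.TensorProduct.includeRight) (Coalgebra.comul (R := R) x) := by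
  rw [TensorProduct.comul_tmul, CommSemiring.comul_apply, ← (Coalgebra.Repr.arbitrary R x).eq]
  simp only [TensorProduct.tmul_sum, map_sum, TensorProduct.AlgebraTensorModule.tensorTensorTensorComm_tmul,
    pairMap_tmul]
  rfl

theorem ComulCompat.restrict {g : R' ⊗[R] X →ₐ[R'] MonoidAlgebra S M} (hg : ComulCompat g) :
    ComulCompat ((g.restrictScalars R).comp Algebra.TensorProduct.includeRight) := by
  intro x
  rw [← pairMap_one_tmul, hg]
  rfl

theorem comulCompat_extend {g : R' ⊗[R] X →ₐ[R'] MonoidAlgebra S M}
    (hg : ComulCompat ((g.restrictScalars R).comp Algebra.TensorProduct.includeRight)) : ComulCompat g := by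
  intro w
  have : (pairMap g).comp (Bialgebra.comulAlgHom R' (R' ⊗[R] X)) = (diagMap R' S M).comp g := by
    refine Algebra.TensorProduct.ext (Subsingleton.elim _ _) (AlgHom.ext fun x => ?_)
    simp only [AlgHom.comp_apply, AlgHom.restrictScalars_apply, Algebra.TensorProduct.includeRight_apply,
      Bialgebra.comulAlgHom_apply]
    rw [pairMap_one_tmul, hg x]
    rfl
  exact DFunLike.congr_fun this w

end Extend

/-- Coefficients of the image of a group-like element are idempotent. -/
theorem ComulCompat.isIdempotentElem_coeff {f : X →ₐ[R] MonoidAlgebra S M} (hf : ComulCompat f) {g : X}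
    (hg : IsGroupLikeElem R g) (m : M) : IsIdempotentElem ((f g).coeff m) := by
  classical
  have h := hf g
  rw [hg.comul_eq_tmul_self, pairMap_tmul] at h
  have key : ∀ a b : MonoidAlgebra S M, ((mapDomainAlgHom R S (MonoidHom.inl M M) a) *
      (mapDomainAlgHom R S (MonoidHom.inr M M) b)).coeff (m, m) = a.coeff m * b.coeff m := by
    intro a b
    induction a using MonoidAlgebra.induction_linear with
    | zero => simp
    | add a a' ha ha' => simp only [map_add, add_mul, coeff_add, Finsupp.add_apply, ha, ha']
    | single p r =>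
      induction b using MonoidAlgebra.induction_linear with
      | zero => simp
      | add b b' hb hb' => simp only [map_add, mul_add, coeff_add, Finsupp.add_apply, hb, hb']
      | single q s =>
        simp only [mapDomainAlgHom_apply, mapDomain_single, single_mul_single, MonoidHom.inl_apply,
          MonoidHom.inr_apply, Prod.mk_mul_mk, mul_one, one_mul, coeff_single, Finsupp.single_apply, Prod.mk.injEq]
        by_cases hp : p = m <;> by_cases hq : q = m <;> simp [hp, hq]
  have key' : ∀ a : MonoidAlgebra S M, (diagMap R S M a).coeff (m, m) = a.coeff m := by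
    intro a
    induction a using MonoidAlgebra.induction_linear with
    | zero => simp
    | add a a' ha ha' => simp only [map_add, coeff_add, Finsupp.add_apply, ha, ha']
    | single p r => simp [diagMap, Finsupp.single_apply]
  show (f g).coeff m * (f g).coeff m = _
  rw [← key, h, key']

end Groth.Agent.HenselAlg
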