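import Mathlib
import Groth.Agent.HenselAlg.Compat
import Groth.Agent.MultType.Field

/-!
The closed fibre of an algebra generated by the coefficients of a homomorphism from a group with closed fibre of
multiplicative type, and by an étale algebra, is finite and reduced.
-/

set_option autoImplicit false
set_option backward.isDefEq.respectTransparency false
set_option backward.isDefEq.respectTransparency.types false
set_option linter.unusedSectionVars false

universe u

open TensorProduct MonoidAlgebra SGA3b IsLocalRing

noncomputable section

namespace Groth.Agent.HenselAlg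

variable {K : Type u} [CommRing K] {W : Type u} [CommRing W] [Algebra K W]

variable (K W) in
/-- Elements with zero differential. -/
def constants : Subalgebra K W where
  carrier := {x | KaehlerDifferential.D K W x = 0}
  mul_mem' := fun {a b} ha hb => by
    show KaehlerDifferential.D K W (a * b) = 0
    rw [Derivation.leibniz, show KaehlerDifferential.D K W a = 0 from ha,
      show KaehlerDifferential.D K W b = 0 from hb, smul_zero, smul_zero, add_zero]
  add_mem' := fun {a b} ha hb => by
    show KaehlerDifferential.D K W (a + b) = 0
    rw [map_add, show KaehlerDifferential.D K W a = 0 from ha, show KaehlerDifferential.D K W b = 0 from hb,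
      add_zero]
  algebraMap_mem' := fun r => Derivation.map_algebraMap _ r

theorem idempotent_mem_constants {e : W} (he : IsIdempotentElem e) : e ∈ constants K W := by
  show KaehlerDifferential.D K W e = 0
  have h := Derivation.leibniz (KaehlerDifferential.D K W) e e
  rw [he.eq] at h
  have h2 : KaehlerDifferential.D K W e = (2 * e) • KaehlerDifferential.D K W e := by
    rw [two_mul, add_smul]; exact h
  have h3 : e • KaehlerDifferential.D K W e = 0 := by
    have h4 := congrArg (e • ·) h2
    simp only [smul_smul] at h4
    rw [show e * (2 * e) = e + e by linear_combination 2 * he.eq, add_smul] at h4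
    exact (left_eq_add.1 h4)
  rw [h, h3, add_zero]

theorem map_mem_constants {V : Type u} [CommRing V] [Algebra K V] [Algebra.FormallyUnramified K V]
    (φ : V →ₐ[K] W) (y : V) : φ y ∈ constants K W := by
  letI : Algebra V W := φ.toRingHom.toAlgebra
  haveI : IsScalarTower K V W := IsScalarTower.of_algebraMap_eq fun r => (φ.commutes r).symm
  have h := KaehlerDifferential.map_D K K V W y
  rw [Subsingleton.elim (KaehlerDifferential.D K V y) 0, map_zero] at h
  exact h.symm

theorem formallyUnramified_of_constants (h : constants K W = ⊤) : Algebra.FormallyUnramified K W := by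
  refine ⟨subsingleton_of_forall_eq 0 fun w => ?_⟩
  have hw : w ∈ Submodule.span W (Set.range (KaehlerDifferential.D K W)) := by
    rw [KaehlerDifferential.span_range_derivation]; trivial
  induction hw using Submodule.span_induction with
  | mem z hz =>
    obtain ⟨x, rfl⟩ := hz
    exact (h ▸ Algebra.mem_top : x ∈ constants K W)
  | zero => rfl
  | add a b _ _ ha hb => rw [ha, hb, add_zero]
  | smul r a _ ha => rw [ha, smul_zero]

variable {A : Type u} [CommRing A] [IsLocalRing A] {C : Type u} [CommRing C] [HopfAlgebra A C]
  {D : Type u} [CommRing D] [Algebra A D] {M : Type u} [CommGroup M]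

theorem fibre_finite_reduced [Algebra.FiniteType A C]
    (hs : IsMultType (ResidueField A) (ResidueField A ⊗[A] C)) [Algebra.FiniteType A D]
    {V : Type u} [CommRing V] [Algebra A V] [Algebra.Etale A V] (g : V →ₐ[A] D)
    (f : C →ₐ[A] MonoidAlgebra D M) (hf : ComulCompat f)
    (hgen : Algebra.adjoin A (Set.range g ∪ Set.range fun p : C × M => (f p.1).coeff p.2) = ⊤) :
    Module.Finite A (D ⧸ (maximalIdeal A).map (algebraMap A D)) ∧
      IsReduced (D ⧸ (maximalIdeal A).map (algebraMap A D)) := by
  classical
  let k := ResidueField A
  obtain ⟨k', _, _, _, _, N, _, -, ⟨e₀⟩⟩ := MultType.exists_separable_split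
    (inferInstance : Algebra.FiniteType k (k ⊗[A] C)) hs
  letI : Algebra A k' := ((algebraMap k k').comp (algebraMap A k)).toAlgebra
  haveI : IsScalarTower A k k' := IsScalarTower.of_algebraMap_eq fun _ => rfl
  let e : (k' ⊗[A] C) ≃ₐc[k'] MonoidAlgebra k' N := (MultType.cbc (R := A) (A := C) k k').symm.trans e₀
  let W' := k' ⊗[A] D
  let incl : D →ₐ[A] W' := Algebra.TensorProduct.includeRight
  let f' : C →ₐ[A] MonoidAlgebra W' M := (mapAlgHom M incl).comp f
  let F : k' ⊗[A] C →ₐ[k'] MonoidAlgebra W' M :=
    Algebra.TensorProduct.lift (Algebra.ofId k' _) f' fun _ _ => Commute.all _ _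
  have hFf : (F.restrictScalars A).comp Algebra.TensorProduct.includeRight = f' :=
    AlgHom.ext fun c => by simp [F]
  have hF : ComulCompat F := comulCompat_extend (R := A) (by rw [hFf]; exact hf.map incl)
  have hco : ∀ (y : k' ⊗[A] C) (m : M), (F y).coeff m ∈ constants k' W' := by
    intro y m
    obtain ⟨z, rfl⟩ := e.symm.toAlgEquiv.surjective y
    induction z using MonoidAlgebra.induction_linear with
    | zero => simp [zero_mem]
    | add a b ha hb => rw [map_add, map_add, coeff_add, Finsupp.add_apply]; exact add_mem ha hb
    | single n r =>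
      rw [show (single n r : MonoidAlgebra k' N) = r • single n 1 by rw [smul_single, smul_eq_mul, mul_one],
        map_smul, map_smul, coeff_smul, Finsupp.smul_apply]
      refine Subalgebra.smul_mem _ (idempotent_mem_constants (hF.isIdempotentElem_coeff ?_ m)) r
      exact (MonoidAlgebra.isGroupLikeElem_single_one (R := k') (A := k') n).map e.symm
  have htop : constants k' W' = ⊤ := by
    let P : Subalgebra A D := ((constants k' W').restrictScalars A).comap incl
    have hP : Algebra.adjoin A (Set.range g ∪ Set.range fun p : C × M => (f p.1).coeff p.2) ≤ P := by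
      refine Algebra.adjoin_le ?_
      rintro _ (⟨v, rfl⟩ | ⟨⟨c, m⟩, rfl⟩)
      · show incl (g v) ∈ constants k' W'
        let φ : k' ⊗[A] V →ₐ[k'] W' := Algebra.TensorProduct.map (AlgHom.id k' k') g
        have h := map_mem_constants φ ((1 : k') ⊗ₜ[A] v)
        exact h
      · show incl ((f c).coeff m) ∈ constants k' W'
        have h := hco ((1 : k') ⊗ₜ[A] c) m
        simpa [F, f', incl, coeff_mapAlgHom] using h
    rw [hgen] at hP
    refine eq_top_iff.2 fun w _ => ?_
    induction w using TensorProduct.induction_on with
    | zero => exact zero_mem _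
    | add a b ha hb => exact add_mem (ha trivial) (hb trivial)
    | tmul r d =>
      rw [show r ⊗ₜ[A] d = r • ((1 : k') ⊗ₜ[A] d) by rw [TensorProduct.smul_tmul', smul_eq_mul, mul_one]]
      have hd : incl d ∈ constants k' W' := hP (Algebra.mem_top (x := d))
      exact Subalgebra.smul_mem _ hd r
  haveI := formallyUnramified_of_constants htop
  haveI : Algebra.FiniteType k' W' := inferInstance
  haveI : Module.Finite k' W' := Algebra.FormallyUnramified.finite_of_free k' W'
  haveI hWred : IsReduced W' := Algebra.FormallyUnramified.isReduced_of_field k' W'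
  let ε : k' ⊗[k] (k ⊗[A] D) ≃ₐ[k'] W' := Algebra.TensorProduct.cancelBaseChange A k k' k' D
  haveI : Module.Finite k' (k' ⊗[k] (k ⊗[A] D)) := Module.Finite.equiv ε.toLinearEquiv.symm
  haveI hfin : Module.Finite k (k ⊗[A] D) := Module.Finite.of_finite_tensorProduct_of_faithfullyFlat k'
  haveI : IsReduced (k' ⊗[k] (k ⊗[A] D)) := isReduced_of_injective ε ε.injective
  have hred : IsReduced (k ⊗[A] D) :=
    isReduced_of_injective (Algebra.TensorProduct.includeRight : k ⊗[A] D →ₐ[k] k' ⊗[k] (k ⊗[A] D))
      (Algebra.TensorProduct.includeRight_injective (algebraMap k k').injective)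
  let q := Algebra.TensorProduct.quotIdealMapEquivQuotTensor (A := A) D (maximalIdeal A)
  haveI : Module.Finite A k := Module.Finite.of_surjective (Algebra.linearMap A k) residue_surjective
  haveI : Module.Finite A (k ⊗[A] D) := Module.Finite.trans k _
  exact ⟨Module.Finite.equiv (M := k ⊗[A] D) (q.symm.toLinearEquiv.restrictScalars A),
    @isReduced_of_injective _ (k ⊗[A] D) _ _ _ _ _ q q.injective hred⟩

end Groth.Agent.HenselAlg
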