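import Mathlib
import Groth.Agent.HenselAlg.Compat
import Groth.Agent.HenselAlg.Approx
import Groth.Agent.HenselAlg.Fibre
import Groth.Agent.MultType.Formal
import Groth.Agent.MultType.Cocomm
import Groth.Agent.RegLocal.Completion
import Groth.Agent.S2974

/-!
Homomorphisms over the completion of a henselian ring, from a group of multiplicative type to a group with closed
fibre of multiplicative type, are defined over the ring.
-/

set_option autoImplicit false
set_option backward.isDefEq.respectTransparency false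
set_option backward.isDefEq.respectTransparency.types false
set_option linter.unusedSectionVars false

universe u

open TensorProduct MonoidAlgebra SGA3b IsLocalRing

noncomputable section

namespace Groth.Agent.HenselAlg

section Descend

variable {A : Type u} [CommRing A] {A' : Type u} [CommRing A'] [Algebra A A']
  {A₁ : Type u} [CommRing A₁] [Algebra A A₁] {B : Type u} [CommRing B] [Bialgebra A B] {M : Type u} [CommGroup M]

/-- Diagonal coordinates over `A₁`, pushed to `A' ⊗ A₁`. -/
def coord (e : (A₁ ⊗[A] B) ≃ₐc[A₁] MonoidAlgebra A₁ M) :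
    A' ⊗[A] B →ₐ[A'] MonoidAlgebra (A' ⊗[A] A₁) M :=
  Algebra.TensorProduct.lift (Algebra.ofId A' _)
    ((mapAlgHom M (Algebra.TensorProduct.includeRight : A₁ →ₐ[A] A' ⊗[A] A₁)).comp (MultType.emb e))
    fun _ _ => Commute.all _ _

theorem comulCompat_coord (e : (A₁ ⊗[A] B) ≃ₐc[A₁] MonoidAlgebra A₁ M) :
    ComulCompat (coord (A' := A') e) := by
  have h1 : ComulCompat (R := A) (MultType.emb e) :=
    (comulCompat_of_bialgHom (e : A₁ ⊗[A] B →ₐc[A₁] MonoidAlgebra A₁ M)).restrict
  refine comulCompat_extend (R := A) ?_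
  have : ((coord (A' := A') e).restrictScalars A).comp Algebra.TensorProduct.includeRight =
      (mapAlgHom M (Algebra.TensorProduct.includeRight : A₁ →ₐ[A] A' ⊗[A] A₁)).comp (MultType.emb e) :=
    AlgHom.ext fun b => by simp [coord]
  rw [this]
  exact h1.map _

/-- An element of `A' ⊗ B` whose coordinates come from `A₁` comes from `B`. -/
theorem mem_range_of_coord [Module.FaithfullyFlat A A₁] (e : (A₁ ⊗[A] B) ≃ₐc[A₁] MonoidAlgebra A₁ M)
    (x : A' ⊗[A] B) (z : MonoidAlgebra A₁ M)
    (hz : mapAlgHom M (Algebra.TensorProduct.includeRight : A₁ →ₐ[A] A' ⊗[A] A₁) z = coord e x) :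
    ∃ b : B, (1 : A') ⊗ₜ[A] b = x := by
  let iB : B →ₐ[A] A' ⊗[A] B := Algebra.TensorProduct.includeRight
  let G : MonoidAlgebra A₁ M →ₐ[A] A₁ ⊗[A] (A' ⊗[A] B) :=
    (Algebra.TensorProduct.map (AlgHom.id A A₁) iB).comp (e.symm.toAlgEquiv.toAlgHom.restrictScalars A)
  let s : A' ⊗[A] A₁ →ₐ[A] A₁ ⊗[A] (A' ⊗[A] B) :=
    Algebra.TensorProduct.lift
      ((Algebra.TensorProduct.includeRight : A' ⊗[A] B →ₐ[A] A₁ ⊗[A] (A' ⊗[A] B)).comp
        Algebra.TensorProduct.includeLeft)
      Algebra.TensorProduct.includeLeft fun _ _ => Commute.all _ _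
  let Θ : MonoidAlgebra (A' ⊗[A] A₁) M →ₐ[A] A₁ ⊗[A] (A' ⊗[A] B) :=
    MonoidAlgebra.liftNCAlgHom s ((G : MonoidAlgebra A₁ M →* _).comp (MonoidAlgebra.of A₁ M))
      fun _ _ => Commute.all _ _
  have hΘsingle : ∀ (m : M) (t : A' ⊗[A] A₁), Θ (single m t) = s t * G (single m 1) := fun m t => by
    simp [Θ, MonoidAlgebra.liftNCAlgHom]
  have hG : ∀ w : MonoidAlgebra A₁ M, Θ (mapAlgHom M Algebra.TensorProduct.includeRight w) = G w := by
    intro w
    induction w using MonoidAlgebra.induction_linear with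
    | zero => simp
    | add a b ha hb => simp only [map_add, ha, hb]
    | single m r =>
      have hr : G (single m r) = G (single (1 : M) r) * G (single m 1) := by
        rw [← map_mul, single_mul_single, one_mul, mul_one]
      rw [mapAlgHom_single, hΘsingle, hr]
      congr 1
      have h1 : e.symm.toAlgEquiv (single (1 : M) r) = algebraMap A₁ (A₁ ⊗[A] B) r :=
        e.symm.toAlgEquiv.commutes r
      show _ = Algebra.TensorProduct.map (AlgHom.id A A₁) iB (e.symm.toAlgEquiv (single (1 : M) r))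
      rw [h1]
      simp [s, iB, Algebra.TensorProduct.one_def]
  have hΘ : ∀ y : A' ⊗[A] B, Θ (coord e y) = (1 : A₁) ⊗ₜ[A] y := by
    intro y
    induction y using TensorProduct.induction_on with
    | zero => simp
    | add a b ha hb => simp only [map_add, ha, hb, TensorProduct.tmul_add]
    | tmul a b =>
      have hc : coord (A' := A') e (a ⊗ₜ[A] b) =
          single (1 : M) (a ⊗ₜ[A] (1 : A₁)) * mapAlgHom M Algebra.TensorProduct.includeRight (MultType.emb e b) := by
        simp [coord]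
      have hGb : G (MultType.emb e b) = (1 : A₁) ⊗ₜ[A] ((1 : A') ⊗ₜ[A] b) := by
        show Algebra.TensorProduct.map (AlgHom.id A A₁) iB (e.symm.toAlgEquiv (e ((1 : A₁) ⊗ₜ[A] b))) = _
        rw [show e.symm.toAlgEquiv (e ((1 : A₁) ⊗ₜ[A] b)) = (1 : A₁) ⊗ₜ[A] b from e.symm_apply_apply _]
        simp [iB]
      rw [hc, map_mul, hG, hGb, hΘsingle,
        show (single (1 : M) (1 : A₁) : MonoidAlgebra A₁ M) = 1 from (MonoidAlgebra.one_def).symm, map_one,
        mul_one]
      simp [s, Algebra.TensorProduct.tmul_mul_tmul]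
  let p : A' ⊗[A] B →ₗ[A] (A' ⊗[A] B) ⧸ LinearMap.range iB.toLinearMap := Submodule.mkQ _
  have hp : p x = 0 := by
    refine (Module.FaithfullyFlat.tensorProduct_mk_injective (A := A) (B := A₁) _) ?_
    show (1 : A₁) ⊗ₜ[A] p x = (1 : A₁) ⊗ₜ[A] (0 : (A' ⊗[A] B) ⧸ LinearMap.range iB.toLinearMap)
    rw [TensorProduct.tmul_zero, ← LinearMap.lTensor_tmul, ← hΘ x, ← hz, hG]
    show LinearMap.lTensor A₁ p (Algebra.TensorProduct.map (AlgHom.id A A₁) iB
      (e.symm.toAlgEquiv z)) = 0
    generalize e.symm.toAlgEquiv z = w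
    induction w using TensorProduct.induction_on with
    | zero => simp
    | add a b ha hb => rw [map_add, map_add, ha, hb, add_zero]
    | tmul a b =>
      rw [Algebra.TensorProduct.map_tmul, LinearMap.lTensor_tmul,
        show p (iB b) = 0 from (Submodule.Quotient.mk_eq_zero _).2 ⟨b, rfl⟩, TensorProduct.tmul_zero]
  obtain ⟨b, hb⟩ := (Submodule.Quotient.mk_eq_zero _).1 hp
  exact ⟨b, hb⟩

end Descend

theorem exists_sub_algebraMap_mem (A : Type u) [CommRing A] [IsNoetherianRing A] [IsLocalRing A]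
    (a : AdicCompletion (maximalIdeal A) A) :
    ∃ r : A, a - algebraMap A _ r ∈ (maximalIdeal A).map (algebraMap A (AdicCompletion (maximalIdeal A) A)) := by
  obtain ⟨r, hr⟩ := Ideal.Quotient.mk_surjective (AdicCompletion.evalOneₐ (maximalIdeal A) a)
  refine ⟨r, ?_⟩
  rw [← AdicCompletion.ker_evalOneₐ_eq_map (maximalIdeal A) (maximalIdeal A).fg_of_isNoetherianRing,
    RingHom.mem_ker, map_sub, sub_eq_zero]
  exact hr.symm.trans ((AdicCompletion.evalOneₐ (maximalIdeal A)).commutes r).symm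

variable {A : Type u} [CommRing A] [HenselianLocalRing A] {A' : Type u} [CommRing A'] [Algebra A A'] {B : Type u} [CommRing B] [HopfAlgebra A B] {C : Type u} [CommRing C] [HopfAlgebra A C]

theorem mem_range_baseChange (hGft : Algebra.FiniteType A B) (hG : IsMultType A B)
    [Algebra.FiniteType A C] (hs : IsMultType (ResidueField A) (ResidueField A ⊗[A] C))
    (hjac : (maximalIdeal A).map (algebraMap A A') ≤ Ideal.jacobson ⊥)
    (hdense : ∀ a : A', ∃ r : A, a - algebraMap A A' r ∈ (maximalIdeal A).map (algebraMap A A'))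
    (φ' : (A' ⊗[A] C) →ₐc[A'] (A' ⊗[A] B)) (c : C) :
    ∃ b : B, (1 : A') ⊗ₜ[A] b = φ' ((1 : A') ⊗ₜ[A] c) := by
  classical
  obtain ⟨A₁, _, _, _, _, _, M, _, ⟨e⟩⟩ := S2974.result A B hGft hG
  let T := A' ⊗[A] A₁
  let iR : A₁ →ₐ[A] T := Algebra.TensorProduct.includeRight
  let mT := (maximalIdeal A).map (algebraMap A T)
  have hJ : mT ≤ Ideal.jacobson ⊥ := by
    show (maximalIdeal A).map (algebraMap A T) ≤ _
    rw [IsScalarTower.algebraMap_eq A A' T, ← Ideal.map_map]
    exact Hensel.map_le_jacobson_of_isIntegral hjac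
  let φ₁ : C →ₐ[A] MonoidAlgebra T M :=
    (((coord e).comp (φ' : A' ⊗[A] C →ₐ[A'] A' ⊗[A] B)).restrictScalars A).comp Algebra.TensorProduct.includeRight
  have hφ₁ : ComulCompat φ₁ := ((comulCompat_coord e).comp φ').restrict
  obtain ⟨sV, hsV⟩ := Algebra.FiniteType.out (R := A) (A := A₁)
  obtain ⟨sC, hsC⟩ := Algebra.FiniteType.out (R := A) (A := C)
  let gens : Finset T := sV.image iR ∪ sC.biUnion fun c => (φ₁ c).coeff.support.image fun m => (φ₁ c).coeff m
  let D : Subalgebra A T := Algebra.adjoin A gens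
  have hVD : ∀ v, iR v ∈ D := fun v => by
    have h : Algebra.adjoin A (sV : Set A₁) ≤ D.comap iR := Algebra.adjoin_le fun v hv =>
      Algebra.subset_adjoin (Finset.mem_coe.2 (Finset.mem_union_left _ (Finset.mem_image_of_mem _ hv)))
    rw [hsV] at h
    exact h Algebra.mem_top
  have hCD : ∀ c, φ₁ c ∈ (mapAlgHom M D.val).range := fun c => by
    have h : Algebra.adjoin A (sC : Set C) ≤ (mapAlgHom M D.val).range.comap φ₁ := Algebra.adjoin_le fun c hc => by
      show φ₁ c ∈ (mapAlgHom M D.val).range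
      rw [← MonoidAlgebra.sum_single (φ₁ c)]
      refine Subalgebra.sum_mem _ fun m hm => ?_
      refine ⟨single m ⟨(φ₁ c).coeff m, Algebra.subset_adjoin (Finset.mem_coe.2 (Finset.mem_union_right _
        (Finset.mem_biUnion.2 ⟨c, hc, Finset.mem_image_of_mem _ hm⟩)))⟩, by simp⟩
    rw [hsC] at h
    exact h Algebra.mem_top
  have hinj : Function.Injective (mapAlgHom M D.val) := mapAlgHom_injective Subtype.val_injective M
  let f : C →ₐ[A] MonoidAlgebra D M :=
    ((AlgEquiv.ofInjective _ hinj).symm.toAlgHom).comp (φ₁.codRestrict _ hCD)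
  have hf' : (mapAlgHom M D.val).comp f = φ₁ := AlgHom.ext fun c =>
    congrArg Subtype.val ((AlgEquiv.ofInjective _ hinj).apply_symm_apply ⟨φ₁ c, hCD c⟩)
  have hcoeff : ∀ c m, (((f c).coeff m : D) : T) = (φ₁ c).coeff m := fun c m => by
    have h := congrArg (fun y : MonoidAlgebra T M => y.coeff m) (AlgHom.congr_fun hf' c)
    simp only [AlgHom.comp_apply, coeff_mapAlgHom] at h
    exact h
  have hf : ComulCompat f := ComulCompat.of_map (h := D.val) Subtype.val_injective (by rw [hf']; exact hφ₁)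
  let g : A₁ →ₐ[A] D := iR.codRestrict D hVD
  have hgen : Algebra.adjoin A (Set.range g ∪ Set.range fun p : C × M => (f p.1).coeff p.2) = ⊤ := by
    refine Subalgebra.map_injective (f := D.val) Subtype.val_injective ?_
    rw [Algebra.map_top, Subalgebra.range_val]
    refine le_antisymm ?_ (Algebra.adjoin_le ?_)
    · rintro _ ⟨y, -, rfl⟩; exact y.2
    · intro t ht
      rcases Finset.mem_union.1 (Finset.mem_coe.1 ht) with h | h
      · obtain ⟨v, -, rfl⟩ := Finset.mem_image.1 h
        exact ⟨g v, Algebra.subset_adjoin (Or.inl ⟨v, rfl⟩), rfl⟩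
      · obtain ⟨c, -, h⟩ := Finset.mem_biUnion.1 h
        obtain ⟨m, -, rfl⟩ := Finset.mem_image.1 h
        exact ⟨(f c).coeff m, Algebra.subset_adjoin (Or.inr ⟨(c, m), rfl⟩), hcoeff c m⟩
  haveI : Algebra.FiniteType A D := Algebra.FiniteType.adjoin_of_finite gens.finite_toSet
  obtain ⟨hfin, hred⟩ := fibre_finite_reduced hs g f hf hgen
  haveI := hfin
  haveI := hred
  have hD : D = iR.range := by
    refine eq_of_fibre hJ D iR.range ?_ fun x hx => ?_
    · rintro _ ⟨v, rfl⟩; exact hVD v
    · clear hx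
      induction x using TensorProduct.induction_on with
      | zero => exact ⟨0, zero_mem _, by simp⟩
      | add a b ha hb =>
        obtain ⟨p, hp, hp'⟩ := ha
        obtain ⟨q, hq, hq'⟩ := hb
        exact ⟨p + q, add_mem hp hq, by rw [show a + b - (p + q) = (a - p) + (b - q) by ring]; exact add_mem hp' hq'⟩
      | tmul a v =>
        obtain ⟨r, hr⟩ := hdense a
        refine ⟨iR (r • v), ⟨r • v, rfl⟩, ?_⟩
        have h := Ideal.mem_map_of_mem (Algebra.TensorProduct.includeLeft : A' →ₐ[A] T) hr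
        rw [← Ideal.map_coe (f := (Algebra.TensorProduct.includeLeft : A' →ₐ[A] T)), Ideal.map_map,
          AlgHom.comp_algebraMap] at h
        have hd : a ⊗ₜ[A] v - iR (r • v) = ((a - algebraMap A A' r) ⊗ₜ[A] (1 : A₁)) * iR v := by
          show a ⊗ₜ[A] v - (1 : A') ⊗ₜ[A] (r • v) = ((a - algebraMap A A' r) ⊗ₜ[A] (1 : A₁)) * ((1 : A') ⊗ₜ[A] v)
          rw [Algebra.TensorProduct.tmul_mul_tmul, mul_one, one_mul, TensorProduct.sub_tmul,
            Algebra.algebraMap_eq_smul_one, TensorProduct.smul_tmul]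
        rw [hd]
        exact Ideal.mul_mem_right _ _ h
  have hmem : φ₁ c ∈ (mapAlgHom M iR).range := by
    rw [← MonoidAlgebra.sum_single (φ₁ c)]
    refine Subalgebra.sum_mem _ fun m _ => ?_
    have h : (φ₁ c).coeff m ∈ D := hcoeff c m ▸ ((f c).coeff m).2
    rw [hD] at h
    obtain ⟨v, hv⟩ := h
    exact ⟨single m v, by simpa using congrArg (single m) hv⟩
  obtain ⟨z, hz⟩ := hmem
  exact mem_range_of_coord e _ z hz

end Groth.Agent.HenselAlg
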